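/-
The character of degree six of `SU₃(3)` over the Gaussian integers, and the degrees divisible by 6, 14, 21.
Main results (namespace `Cfsg.Agent.Golay.UThree`): `exists_degrees`.
-/
import Cfsg.Agent.Lib.Golay.UThree.Group
import Cfsg.Agent.Lib.Char.Virtual
import Cfsg.Agent.Lib.Perm.TwiceP.Square
import Cfsg.Prelude.Def_DegreeGraph
import Mathlib.NumberTheory.Zsqrtd.GaussianInt

set_option autoImplicit false
set_option maxRecDepth 100000

namespace Cfsg.Agent.Golay.UThree

open Cfsg Matrix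
open scoped ComplexConjugate

/-- The Gaussian integer in slot `t` of a packed matrix. -/
def z6 (c t : ℕ) : GaussianInt :=
  ⟨(c / 256 ^ (2 * t) % 256 : ℕ) - 128, (c / 256 ^ (2 * t + 1) % 256 : ℕ) - 128⟩

/-- The matrix with code `c`. -/
def mat6 (c : ℕ) : List (List GaussianInt) :=
  (List.range 6).map fun i => (List.range 6).map fun j => z6 c (6 * i + j)

def sL (s : ℕ) : List (List GaussianInt) := mat6 (repGens.getD s 0)
def pL (k : ℕ) : List (List GaussianInt) := mat6 (repCodes.getD k 0)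
def qL (i : ℕ) : List (List GaussianInt) := if i = 0 then oneL 6 else mulL (pL (transU.getD i 0)) (sL 2)

theorem shape_mat6 (c : ℕ) : shape 6 (mat6 c) = true := by
  rw [shape_iff]
  simp [mat6]

theorem shape_sL (s : ℕ) : shape 6 (sL s) = true := shape_mat6 _

theorem shape_pL (k : ℕ) : shape 6 (pL k) = true := shape_mat6 _

theorem shape_qL : ∀ i < 28, shape 6 (qL i) = true := by decide +kernel

theorem pL_zero : pL 0 = oneL 6 := by decide +kernel

theorem rep_act : ∀ s < 2, ∀ k < 216, mulL (sL s) (pL k) = pL (act s k) := by decide +kernel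

theorem rep_step : ∀ s < 3, ∀ i < 28,
    mulL (sL s) (qL i) = mulL (qL (stepJ s i)) (pL (stepK s i)) := by decide +kernel

abbrev M6 := Matrix (Fin 6) (Fin 6) GaussianInt

def sM (s : ℕ) : M6 := toM 6 (sL s)
def pM (k : ℕ) : M6 := toM 6 (pL k)

theorem psi_eq {i : ℕ} (hi : i < 28) : psi sM pM i = toM 6 (qL i) := by
  unfold psi qL
  split_ifs with h
  · rw [toM_oneL]
  · rw [toM_mulL (shape_pL _) (shape_sL 2)]
    rfl

theorem exists_rep : ∃ ρ : SU3 →* M6, ∀ p : Fin 28 × Fin 216, ρ (fac p) = psi sM pM p.1 * pM p.2 := by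
  refine exists_hom (by rw [pM, pL_zero, toM_oneL]) (fun s hs k hk => ?_) fun s hs i hi => ?_
  · rw [sM, pM, pM, ← toM_mulL (A := sL s) (B := pL k) (shape_mat6 _) (shape_mat6 _), rep_act s hs k hk]
  · have hj := (step_ok s hs i hi).1
    rw [psi_eq hi, psi_eq hj, sM, pM,
      ← toM_mulL (A := sL s) (shape_mat6 _) (shape_qL i hi), rep_step s hs i hi,
      toM_mulL (B := pL _) (shape_qL _ hj) (shape_mat6 _)]

/-- `(tr h, tr h²)` on the stabiliser. -/
def trB (k : ℕ) : ℤ × ℤ := ((trL 6 (pL k)).re, (trL 6 (mulL (pL k) (pL k))).re)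

/-- `(tr wh, tr (wh)²)` for `h` in the stabiliser. -/
def trW (k : ℕ) : ℤ × ℤ :=
  ((trL 6 (mulL (sL 2) (pL k))).re, (trL 6 (mulL (mulL (sL 2) (pL k)) (mulL (sL 2) (pL k)))).re)

theorem tr_real : ∀ k < 216, (trL 6 (pL k)).im = 0 ∧ (trL 6 (mulL (pL k) (pL k))).im = 0 ∧
    (trL 6 (mulL (sL 2) (pL k))).im = 0 ∧
    (trL 6 (mulL (mulL (sL 2) (pL k)) (mulL (sL 2) (pL k)))).im = 0 := by
  decide +kernel

/-- `∑` over `SU₃(3)` computed from the stabiliser. -/
def total (f : ℤ × ℤ → ℤ) : ℤ :=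
  ((List.range 216).map fun k => f (trB k)).sum + 27 * ((List.range 216).map fun k => f (trW k)).sum

theorem totals : total (fun p => p.1 * p.1) = 6048 ∧ total (fun p => p.1 * p.1 - p.2) = 12096 ∧
    total (fun p => (p.1 * p.1 - p.2) * (p.1 * p.1 - p.2)) = 48384 ∧
    total (fun p => (p.1 * p.1 + p.2) * (p.1 * p.1 + p.2)) = 24192 := by
  decide +kernel

theorem exists_rightMul : ∀ u < 216, ∃ e : Fin 216 → Fin 216, Function.Bijective e ∧
    ∀ k : Fin 216, pM (e k) = pM k * pM u := by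
  intro u hu
  have hex : ∀ k : Fin 216, ∃ n : Fin 216, hM k * hM u = hM n ∧ pM k * pM u = pM n := fun k => by
    obtain ⟨n, hn, e1, e2⟩ := hM_mul (S := sM) (φ := pM) (by rw [pM, pL_zero, toM_oneL])
      (fun s hs k' hk' => by
        rw [sM, pM, pM, ← toM_mulL (A := sL s) (B := pL k') (shape_mat6 _) (shape_mat6 _),
          rep_act s hs k' hk']) k k.isLt u hu
    exact ⟨⟨n, hn⟩, e1, e2⟩
  choose e he1 he2 using hex
  refine ⟨e, Finite.injective_iff_bijective.1 fun a b hab => ?_, fun k => (he2 k).symm⟩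
  have : IsUnit (hM u) := (hS_spec ⟨u, hu⟩).2 ▸ (Group.isUnit (hS ⟨u, hu⟩)).map toMat3
  exact Fin.ext (hM_inj a.isLt b.isLt (this.mul_right_cancel (by rw [he1 a, he1 b, hab])))

/-- The trace pair of an element. -/
def pairOf (A : M6) : ℤ × ℤ := (A.trace.re, (A * A).trace.re)

theorem pairOf_comm (A B : M6) : pairOf (A * B) = pairOf (B * A) := by
  unfold pairOf
  rw [Matrix.trace_mul_comm A B, show A * B * (A * B) = A * (B * (A * B)) from mul_assoc _ _ _,
    Matrix.trace_mul_comm A, mul_assoc B, mul_assoc A B A, mul_assoc B A]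

theorem pairOf_pM (k : ℕ) : pairOf (pM k) = trB k := by
  rw [pairOf, trB, pM, ← toM_mulL (shape_pL k) (shape_pL k), trace_toM, trace_toM]

theorem pairOf_wM (k : ℕ) : pairOf (sM 2 * pM k) = trW k := by
  have h : shape 6 (mulL (sL 2) (pL k)) = true := by
    rw [shape_iff]
    obtain ⟨-, h2⟩ := shape_iff.1 (shape_mat6 (repCodes.getD k 0))
    refine ⟨by simp [mulL, sL, mat6], fun r hr => ?_⟩
    simp only [mulL, sL, pL, mat6, List.mem_map, List.mem_range] at hr
    obtain ⟨r', ⟨i, -, rfl⟩, rfl⟩ := hr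
    simp [List.range_succ, rowMul, addRow]
  rw [pairOf, trW, sM, pM, ← toM_mulL (shape_sL 2) (shape_pL _),
    ← toM_mulL h h, trace_toM, trace_toM]

theorem exists_degrees : ∃ d₁ ∈ charDegrees SU3, ∃ d₂ ∈ charDegrees SU3, ∃ d₃ ∈ charDegrees SU3,
    d₁ = 6 ∧ d₂ = 14 ∧ d₃ = 21 := by
  classical
  obtain ⟨ρ, hρ⟩ := exists_rep
  let π : Representation ℂ SU3 (Fin 6 → ℂ) :=
    ((Matrix.toLinAlgEquiv'.toRingEquiv.toMonoidHom).comp
      (GaussianInt.toComplex.mapMatrix.toMonoidHom)).comp ρ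
  set χ : SU3 → ℂ := π.character with hχdef
  have hchar : IsCharacter SU3 χ := ⟨6, π, rfl⟩
  have hval : ∀ g, χ g = GaussianInt.toComplex (ρ g).trace := fun g => by
    rw [hχdef]
    show LinearMap.trace ℂ (Fin 6 → ℂ) (Matrix.toLin' ((ρ g).map GaussianInt.toComplex)) = _
    rw [LinearMap.trace_eq_matrix_trace ℂ (Pi.basisFun ℂ (Fin 6)),
      LinearMap.toMatrix_eq_toMatrix', LinearMap.toMatrix'_toLin', Matrix.trace, Matrix.trace, map_sum]
    rfl
  have him : ∀ g, (ρ g).trace.im = 0 := by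
    intro g
    obtain ⟨⟨i, k⟩, rfl⟩ := fac_bijective.2 g
    rw [hρ, psi]
    split_ifs with h
    · rw [one_mul, pM, trace_toM]
      exact (tr_real k k.isLt).1
    · obtain ⟨e, -, he⟩ := exists_rightMul _ (trans_lt i i.isLt)
      rw [mul_assoc, Matrix.trace_mul_comm, mul_assoc, ← he k, sM, pM,
        ← toM_mulL (shape_sL 2) (shape_pL _), trace_toM]
      exact (tr_real _ (e k).isLt).2.2.1
  let a : SU3 → ℤ := fun g => (pairOf (ρ g)).1
  let b : SU3 → ℤ := fun g => (pairOf (ρ g)).2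
  have ha : ∀ g, χ g = (a g : ℂ) := fun g => by
    rw [hval, show (ρ g).trace = ((a g : ℤ) : GaussianInt) from Zsqrtd.ext rfl (by rw [him]; rfl), map_intCast]
  have hb : ∀ g, χ (g * g) = (b g : ℂ) := fun g => by
    rw [ha]
    simp only [a, b, pairOf, map_mul]
  -- the sums
  have hsum : ∀ f : ℤ × ℤ → ℤ, ∑ g : SU3, f (a g, b g) = total f := by
    intro f
    rw [← (Equiv.ofBijective fac fac_bijective).sum_comp, Fintype.sum_prod_type, Fin.sum_univ_succ]
    have h1 : ∑ k : Fin 216, f (trB k) = ((List.range 216).map fun k => f (trB k)).sum := by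
      rw [Fin.sum_univ_eq_sum_range (fun k => f (trB k)), ← List.sum_toFinset _ List.nodup_range,
        List.toFinset_range]
    have h2 : ∑ k : Fin 216, f (trW k) = ((List.range 216).map fun k => f (trW k)).sum := by
      rw [Fin.sum_univ_eq_sum_range (fun k => f (trW k)), ← List.sum_toFinset _ List.nodup_range,
        List.toFinset_range]
    rw [total, ← h1, ← h2]
    congr 1
    · refine Finset.sum_congr rfl fun k _ => ?_
      show f (pairOf (ρ (fac (0, k)))) = _
      rw [hρ]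
      show f (pairOf (psi sM pM 0 * pM k)) = _
      rw [psi, if_pos rfl, one_mul, pairOf_pM]
    · have hrow : ∀ i : Fin 27, ∑ k : Fin 216, f (pairOf (ρ (fac (i.succ, k)))) =
          ∑ k : Fin 216, f (trW k) := by
        intro i
        obtain ⟨e, heb, he⟩ := exists_rightMul _ (trans_lt i.succ i.succ.isLt)
        refine Fintype.sum_bijective e heb _ _ fun k => ?_
        rw [hρ, psi, if_neg (by simp), mul_assoc, pairOf_comm, mul_assoc, ← he k, pairOf_wM]
      show ∑ i : Fin 27, ∑ k : Fin 216, f (pairOf (ρ (fac (i.succ, k)))) = _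
      rw [Finset.sum_congr rfl fun i _ => hrow i, Finset.sum_const, Finset.card_univ,
        Fintype.card_fin, nsmul_eq_mul]
      rfl
  obtain ⟨t1, t2, t3, t4⟩ := totals
  have hN : (Nat.card SU3 : ℂ) = 6048 := by rw [card_SU3]; norm_num
  have hcast : ∀ (F : ℤ × ℤ → ℤ) (n : ℤ), total F = n →
      ∑ g : SU3, ((F (a g, b g) : ℤ) : ℂ) = (n : ℂ) := fun F n h => by
    rw [← Int.cast_sum, hsum, h]
  have hirr : IsIrrCharacter SU3 χ := by
    rw [Char.isIrrCharacter_iff_norm_one hchar, classInner, hN]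
    have := hcast _ _ t1
    simp only [ha, map_intCast]
    push_cast at this ⊢
    rw [this]; norm_num
  let α := Perm.TwiceP.altSq χ
  have hα : IsCharacter SU3 α := Perm.TwiceP.isCharacter_altSq hchar
  have hαv : ∀ g, α g = ((a g : ℂ) ^ 2 - (b g : ℂ)) / 2 := fun g => by
    simp only [α, Perm.TwiceP.altSq, ha g, hb g]
  have hα1 : classInner α (1 : SU3 → ℂ) = 1 := by
    have := hcast _ _ t2
    simp only [classInner, Pi.one_apply, map_one, mul_one, hαv, hN, ← Finset.sum_div]
    push_cast at this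
    simp only [← pow_two] at this
    rw [this]; norm_num
  have hαα : classInner α α = 2 := by
    have := hcast _ _ t3
    simp only [classInner, hαv, hN, map_div₀, map_sub, map_pow, map_intCast, map_ofNat,
      div_mul_div_comm, ← Finset.sum_div]
    push_cast at this
    simp only [← pow_two] at this ⊢
    rw [this]; norm_num
  have h11 : classInner (1 : SU3 → ℂ) 1 = 1 :=
    Char.classInner_irr_self Char.isIrrCharacter_one
  have h1α : classInner (1 : SU3 → ℂ) α = 1 := by
    rw [← Char.classInner_conj_symm, hα1, map_one]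
  have gen14 : IsGeneralizedCharacter SU3 (α - 1) :=
    ⟨α, 1, hα, Char.isCharacter_one, rfl⟩
  have n14 : classInner (α - 1) (α - 1) = 1 := by
    rw [Char.classInner_sub_left, Char.classInner_sub_right, Char.classInner_sub_right, hαα, hα1, h1α, h11]
    norm_num
  let σ : SU3 → ℂ := χ * χ - α
  have hσv : ∀ g, σ g = ((a g : ℂ) ^ 2 + (b g : ℂ)) / 2 := fun g => by
    simp only [σ, Pi.sub_apply, Pi.mul_apply, hαv, ha g]; ring
  have gen21 : IsGeneralizedCharacter SU3 σ := ⟨χ * χ, α, Char.IsCharacter.mul hchar hchar, hα, rfl⟩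
  have n21 : classInner σ σ = 1 := by
    have := hcast _ _ t4
    simp only [classInner, hσv, hN, map_div₀, map_add, map_pow, map_intCast, map_ofNat,
      div_mul_div_comm, ← Finset.sum_div]
    push_cast at this
    simp only [← pow_two] at this ⊢
    rw [this]; norm_num
  have hv1 : a 1 = 6 ∧ b 1 = 6 := by
    simp only [a, b, pairOf, map_one, mul_one, Matrix.trace_one, Fintype.card_fin]
    constructor <;> rfl
  have deg : ∀ (θ : SU3 → ℂ) (n : ℕ), IsGeneralizedCharacter SU3 θ → classInner θ θ = 1 → 0 < n →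
      θ 1 = (n : ℂ) → n ∈ charDegrees SU3 := by
    intro θ n hθ h1 hn hv
    obtain ⟨ψ, hψ, he⟩ := Char.IsGeneralizedCharacter.exists_irr_of_norm_one hθ h1
    obtain ⟨m, -, hm⟩ := Char.IsIrrCharacter.exists_degree hψ
    refine ⟨⟨ψ, hψ⟩, ?_⟩
    rcases he with e | e
    · rw [e] at hv
      show charDegree ψ = n
      rw [charDegree, hv, Complex.natCast_re, Nat.floor_natCast]
    · rw [e, Pi.neg_apply, hm] at hv
      have h0 : ((m + n : ℕ) : ℂ) = 0 := by push_cast; linear_combination -hv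
      rw [Nat.cast_eq_zero] at h0
      omega
  refine ⟨6, ⟨⟨χ, hirr⟩, ?_⟩, 14, deg _ 14 gen14 n14 (by norm_num) ?_, 21,
    deg _ 21 gen21 n21 (by norm_num) ?_, rfl, rfl, rfl⟩
  · show charDegree χ = 6
    rw [charDegree, ha, hv1.1]
    norm_num
  · rw [Pi.sub_apply, hαv, hv1.1, hv1.2, Pi.one_apply]; norm_num
  · rw [hσv, hv1.1, hv1.2]; norm_num

end Cfsg.Agent.Golay.UThree
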