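/-
A solvable group of order 6048 with an irreducible character of degree 42, and the degree graph of a group
of that order with degrees divisible by 6, 14 and 21.
Main results (namespace `Cfsg.Agent.Golay.UThree`): `Wit`, `exists_fortytwo`, `degreePrimes_eq`, `degreeGraph_eq`.
-/
import Cfsg.Agent.Lib.Char.Perm
import Cfsg.Agent.Lib.Char.Virtual
import Cfsg.Agent.Lib.Char.Linear
import Cfsg.Agent.Lib.Codegree.Basic
import Cfsg.Prelude.Def_DegreeGraph

set_option autoImplicit false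
set_option maxRecDepth 100000

namespace Cfsg.Agent.Golay.UThree

open Cfsg

/-- `GF(2)³`. -/
abbrev V8 := Fin 3 → ZMod 2

/-- An element of order seven of `GL₃(2)`. -/
def sig (v : V8) : V8 := ![v 2, v 0 + v 2, v 1]

def phiF (k : ZMod 7) : Multiplicative V8 → Multiplicative V8 :=
  fun v => Multiplicative.ofAdd (sig^[k.val] v.toAdd)

theorem phiF_mul : ∀ (k : ZMod 7) (v v' : Multiplicative V8), phiF k (v * v') = phiF k v * phiF k v' := by
  decide +kernel

theorem phiF_add : ∀ (k k' : ZMod 7) (v : Multiplicative V8), phiF (k + k') v = phiF k (phiF k' v) := by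
  decide +kernel

theorem phiF_zero (v : Multiplicative V8) : phiF 0 v = v := rfl

/-- The action of the cyclic group of order seven. -/
def phi7 : Multiplicative (ZMod 7) →* MulAut (Multiplicative V8) where
  toFun k :=
    { toFun := phiF k.toAdd
      invFun := phiF (-k.toAdd)
      left_inv := fun v => by rw [← phiF_add, neg_add_cancel, phiF_zero]
      right_inv := fun v => by rw [← phiF_add, add_neg_cancel, phiF_zero]
      map_mul' := phiF_mul _ }
  map_one' := MulEquiv.ext fun v => phiF_zero v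
  map_mul' k k' := MulEquiv.ext fun v => phiF_add k.toAdd k'.toAdd v

/-- `2³:7`. -/
abbrev G56 := Multiplicative V8 ⋊[phi7] Multiplicative (ZMod 7)

instance : Fintype G56 := Fintype.ofEquiv _ SemidirectProduct.equivProd.symm

instance : MulAction G56 V8 where
  smul g x := g.left.toAdd + (phiF g.right.toAdd (Multiplicative.ofAdd x)).toAdd
  one_smul x := by
    show (1 : G56).left.toAdd + _ = x
    simp [phiF_zero]
  mul_smul g h x := by
    show (g * h).left.toAdd + _ = g.left.toAdd + (phiF g.right.toAdd (Multiplicative.ofAdd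
      (h.left.toAdd + (phiF h.right.toAdd (Multiplicative.ofAdd x)).toAdd))).toAdd
    rw [ofAdd_add, ofAdd_toAdd, ofAdd_toAdd, phiF_mul, ← phiF_add]
    simp only [SemidirectProduct.mul_left, SemidirectProduct.mul_right, toAdd_mul, phi7, add_assoc]
    rfl

/-- `3^(1+2):2` as affine maps `(x, y) ↦ (e x + c y + b, y + d)`. -/
@[ext]
structure G54 where
  e : (ZMod 3)ˣ
  c : ZMod 3
  b : ZMod 3
  d : ZMod 3
deriving DecidableEq

instance : Fintype G54 :=
  Fintype.ofEquiv ((ZMod 3)ˣ × ZMod 3 × ZMod 3 × ZMod 3)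
    { toFun := fun x => ⟨x.1, x.2.1, x.2.2.1, x.2.2.2⟩
      invFun := fun g => (g.e, g.c, g.b, g.d)
      left_inv := fun _ => rfl
      right_inv := fun _ => rfl }

instance : Mul G54 :=
  ⟨fun g h => ⟨g.e * h.e, g.e * h.c + g.c, g.e * h.b + g.c * h.d + g.b, g.d + h.d⟩⟩

instance : One G54 := ⟨⟨1, 0, 0, 0⟩⟩

instance : Inv G54 :=
  ⟨fun g => ⟨g.e⁻¹, -(g.e⁻¹ : (ZMod 3)ˣ) * g.c, -(g.e⁻¹ : (ZMod 3)ˣ) * (g.b - g.c * g.d), -g.d⟩⟩

theorem G54.mul_def (g h : G54) :
    g * h = ⟨g.e * h.e, g.e * h.c + g.c, g.e * h.b + g.c * h.d + g.b, g.d + h.d⟩ := rfl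

theorem G54.one_def : (1 : G54) = ⟨1, 0, 0, 0⟩ := rfl

theorem G54.inv_def (g : G54) : g⁻¹ =
    ⟨g.e⁻¹, -(g.e⁻¹ : (ZMod 3)ˣ) * g.c, -(g.e⁻¹ : (ZMod 3)ˣ) * (g.b - g.c * g.d), -g.d⟩ := rfl

instance : Group G54 :=
  Group.ofLeftAxioms
    (fun a b c => by
      ext <;> simp only [G54.mul_def, Units.val_mul] <;> ring)
    (fun a => by ext <;> simp [G54.mul_def, G54.one_def])
    (by decide +kernel)

instance : MulAction G54 (ZMod 3 × ZMod 3) where
  smul g x := (g.e * x.1 + g.c * x.2 + g.b, x.2 + g.d)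
  one_smul x := by
    show ((1 : G54).e * x.1 + (1 : G54).c * x.2 + (1 : G54).b, x.2 + (1 : G54).d) = x
    simp [G54.one_def]
  mul_smul g h x := by
    refine Prod.ext ?_ ?_
    · show ((g * h).e : ZMod 3) * x.1 + (g * h).c * x.2 + (g * h).b =
        g.e * (h.e * x.1 + h.c * x.2 + h.b) + g.c * (x.2 + h.d) + g.b
      simp only [G54.mul_def, Units.val_mul]; ring
    · show x.2 + (g * h).d = x.2 + h.d + g.d
      simp only [G54.mul_def]; ring

/-- Three points. -/
@[ext]
structure Three where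
  y : ZMod 3
deriving DecidableEq

instance : Fintype Three :=
  Fintype.ofEquiv (ZMod 3) ⟨Three.mk, Three.y, fun _ => rfl, fun _ => rfl⟩

instance : MulAction G54 Three where
  smul g p := ⟨p.y + g.d⟩
  one_smul p := Three.ext (add_zero p.y)
  mul_smul g h p := Three.ext (by
    show p.y + (g * h).d = p.y + h.d + g.d
    simp only [G54.mul_def]; ring)

/-- The solvable group of order 6048. -/
abbrev Wit := G56 × G54 × Multiplicative (ZMod 2)

theorem card_Wit : Nat.card Wit = 6048 := by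
  rw [Nat.card_eq_fintype_card, Fintype.card_prod, Fintype.card_prod]
  rfl

theorem isSolvable_Wit : Group.IsSolvable Wit := by
  have h56 : Group.IsSolvable G56 :=
    Group.isSolvable_of_ker_le_range (SemidirectProduct.inl : Multiplicative V8 →* G56) SemidirectProduct.rightHom
      (le_of_eq SemidirectProduct.range_inl_eq_ker_rightHom.symm)
  have h54 : Group.IsSolvable G54 := by
    let q : G54 →* (ZMod 3)ˣ × Multiplicative (ZMod 3) :=
      { toFun := fun g => (g.e, Multiplicative.ofAdd g.d)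
        map_one' := rfl
        map_mul' := fun g h => rfl }
    let i : Multiplicative (ZMod 3 × ZMod 3) →* G54 :=
      { toFun := fun x => ⟨1, x.toAdd.1, x.toAdd.2, 0⟩
        map_one' := rfl
        map_mul' := fun x y => by
          ext <;> simp [G54.mul_def, toAdd_mul, add_comm] }
    refine Group.isSolvable_of_ker_le_range i q fun g hg => ?_
    obtain ⟨he, hd⟩ := Prod.ext_iff.1 (MonoidHom.mem_ker.1 hg)
    refine ⟨Multiplicative.ofAdd (g.c, g.b), ?_⟩
    ext
    · exact congrArg Units.val he.symm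
    · rfl
    · rfl
    · exact hd.symm
  infer_instance

/-- Fixed points minus one on eight points. -/
def n7 (g : G56) : ℤ := ((Finset.univ : Finset V8).filter fun x => g • x = x).card - 1

/-- The character of degree six of `G54`. -/
def n6 (g : G54) : ℤ :=
  ((Finset.univ : Finset (ZMod 3 × ZMod 3)).filter fun x => g • x = x).card -
    ((Finset.univ : Finset Three).filter fun x => g • x = x).card

theorem sum_n7 : ∑ g : G56, n7 g * n7 g = 56 ∧ n7 1 = 7 := by decide +kernel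

theorem sum_n6 : ∑ g : G54, n6 g * n6 g = 54 ∧ n6 1 = 6 := by decide +kernel

theorem fixed_eq {G : Type*} [Group G] (X : Type*) [MulAction G X] [Fintype X] [DecidableEq X] (g : G) :
    Nat.card (MulAction.fixedBy X g) = ((Finset.univ : Finset X).filter fun x => g • x = x).card := by
  rw [Nat.card_coe_set_eq, ← Set.ncard_coe_finset]
  congr 1
  ext x
  simp [MulAction.fixedBy]

theorem irr_of_int {G : Type*} [Group G] [Fintype G] {θ : G → ℂ} (n : G → ℤ) (N m : ℕ)
    (hθ : IsGeneralizedCharacter G θ) (hv : ∀ g, θ g = (n g : ℂ)) (hN : Nat.card G = N)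
    (hs : ∑ g, n g * n g = N) (h1 : n 1 = m) (hm : 0 < m) :
    ∃ ψ, IsIrrCharacter G ψ ∧ ψ 1 = (m : ℂ) := by
  have h : classInner θ θ = 1 := by
    have hs' : ((∑ g, n g * n g : ℤ) : ℂ) = (N : ℂ) := by rw [hs]; push_cast; rfl
    push_cast at hs'
    have hN0 : (N : ℂ) ≠ 0 := by
      rw [← hN]; exact Nat.cast_ne_zero.2 Nat.card_pos.ne'
    simp only [classInner, hv, map_intCast, hs', hN]
    exact inv_mul_cancel₀ hN0
  obtain ⟨ψ, hψ, e | e⟩ := Char.IsGeneralizedCharacter.exists_irr_of_norm_one hθ h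
  · exact ⟨ψ, hψ, by rw [← e, hv, h1, Int.cast_natCast]⟩
  · obtain ⟨k, -, hk⟩ := Char.IsIrrCharacter.exists_degree hψ
    have h2 := hv 1
    rw [e, Pi.neg_apply, hk, h1, Int.cast_natCast] at h2
    have h0 : ((k + m : ℕ) : ℂ) = 0 := by push_cast; linear_combination -h2
    rw [Nat.cast_eq_zero] at h0
    omega

theorem exists_fortytwo : ∃ d ∈ charDegrees Wit, d = 42 := by
  classical
  obtain ⟨φ, hφ, hφ1⟩ := irr_of_int n7 56 7
    (θ := fun g : G56 => (Nat.card (MulAction.fixedBy V8 g) : ℂ) - 1)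
    ⟨_, _, Char.isCharacter_fixedPoints V8, Char.isCharacter_one, rfl⟩
    (fun g => by rw [n7, fixed_eq]; push_cast; rfl) (by rw [Nat.card_eq_fintype_card]; rfl)
    sum_n7.1 sum_n7.2 (by norm_num)
  obtain ⟨ψ, hψ, hψ1⟩ := irr_of_int n6 54 6
    (θ := fun g : G54 => (Nat.card (MulAction.fixedBy (ZMod 3 × ZMod 3) g) : ℂ) -
      (Nat.card (MulAction.fixedBy Three g) : ℂ))
    ⟨_, _, Char.isCharacter_fixedPoints (ZMod 3 × ZMod 3), Char.isCharacter_fixedPoints Three, rfl⟩
    (fun g => by rw [n6, fixed_eq, fixed_eq]; push_cast; rfl) (by rw [Nat.card_eq_fintype_card]; rfl)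
    sum_n6.1 sum_n6.2 (by norm_num)
  refine ⟨42, ⟨⟨_, Char.IsIrrCharacter.prodMul hφ (Char.IsIrrCharacter.prodMul hψ
    (Char.isIrrCharacter_one (G := Multiplicative (ZMod 2))))⟩, ?_⟩, rfl⟩
  simp only [charDegree, Prod.fst_one, Prod.snd_one, hφ1, hψ1, Pi.one_apply]
  norm_num

universe u

variable {X : Type u} [Group X] [Finite X]

theorem prime_cases (hX : Nat.card X = 6048) {p : ℕ} (hp : p ∈ degreePrimes X) :
    p = 2 ∨ p = 3 ∨ p = 7 := by
  have := Fintype.ofFinite X
  obtain ⟨hp, d, ⟨χ, rfl⟩, hd⟩ := hp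
  have h : p ∣ 2 ^ 5 * 3 ^ 3 * 7 := by
    have := hd.trans (Codegree.deg_dvd_card χ)
    rwa [hX] at this
  rcases (Nat.Prime.dvd_mul hp).1 h with h | h
  · rcases (Nat.Prime.dvd_mul hp).1 h with h | h
    · exact Or.inl ((Nat.prime_dvd_prime_iff_eq hp Nat.prime_two).1 (hp.dvd_of_dvd_pow h))
    · exact Or.inr (Or.inl ((Nat.prime_dvd_prime_iff_eq hp Nat.prime_three).1 (hp.dvd_of_dvd_pow h)))
  · exact Or.inr (Or.inr ((Nat.prime_dvd_prime_iff_eq hp (by norm_num)).1 h))

/-- Degrees divisible by 6, 14 and 21. -/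
def Full (X : Type u) [Group X] : Prop :=
  ∀ p ∈ ({2, 3, 7} : Set ℕ), ∀ q ∈ ({2, 3, 7} : Set ℕ), p ≠ q → ∃ d ∈ charDegrees X, p * q ∣ d

theorem degreePrimes_eq (hX : Nat.card X = 6048) (h : Full X) : degreePrimes X = {2, 3, 7} := by
  ext p
  refine ⟨fun hp => prime_cases hX hp, fun hp => ?_⟩
  obtain ⟨hpr, q, hq, hne⟩ : p.Prime ∧ ∃ q ∈ ({2, 3, 7} : Set ℕ), p ≠ q := by
    rcases hp with rfl | rfl | rfl
    · exact ⟨Nat.prime_two, 3, Or.inr (Or.inl rfl), by norm_num⟩
    · exact ⟨Nat.prime_three, 2, Or.inl rfl, by norm_num⟩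
    · exact ⟨by norm_num, 2, Or.inl rfl, by norm_num⟩
  obtain ⟨d, hd, hdvd⟩ := h p hp q hq hne
  exact ⟨hpr, d, hd, (dvd_mul_right p q).trans hdvd⟩

theorem adj_iff (hX : Nat.card X = 6048) (h : Full X) (p q : ℕ) : (degreeGraph X).Adj p q ↔
    p ≠ q ∧ p ∈ ({2, 3, 7} : Set ℕ) ∧ q ∈ ({2, 3, 7} : Set ℕ) := by
  rw [← degreePrimes_eq hX h]
  constructor
  · rintro ⟨hne, hp, hq, d, hd, hdvd⟩
    exact ⟨hne, ⟨hp, d, hd, (dvd_mul_right p q).trans hdvd⟩, ⟨hq, d, hd, (dvd_mul_left q p).trans hdvd⟩⟩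
  · rintro ⟨hne, hp, hq⟩
    obtain ⟨d, hd, hdvd⟩ := h p (degreePrimes_eq hX h ▸ hp) q (degreePrimes_eq hX h ▸ hq) hne
    exact ⟨hne, hp.1, hq.1, d, hd, hdvd⟩

theorem full_Wit : Full Wit := by
  obtain ⟨d, hd, rfl⟩ := exists_fortytwo
  intro p hp q hq hne
  refine ⟨42, hd, ?_⟩
  rcases hp with rfl | rfl | rfl <;> rcases hq with rfl | rfl | rfl <;>
    first | exact absurd rfl hne | norm_num

omit [Finite X] in
theorem full_of_degrees (h : ∃ d₁ ∈ charDegrees X, ∃ d₂ ∈ charDegrees X, ∃ d₃ ∈ charDegrees X,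
    d₁ = 6 ∧ d₂ = 14 ∧ d₃ = 21) : Full X := by
  obtain ⟨_, h6, _, h14, _, h21, rfl, rfl, rfl⟩ := h
  intro p hp q hq hne
  rcases hp with rfl | rfl | rfl <;> rcases hq with rfl | rfl | rfl <;>
    first
      | exact absurd rfl hne
      | (refine ⟨6, h6, ?_⟩; norm_num; done)
      | (refine ⟨14, h14, ?_⟩; norm_num; done)
      | (refine ⟨21, h21, ?_⟩; norm_num; done)

theorem charDegrees_congr {G H : Type*} [Group G] [Group H] (e : G ≃* H) :
    charDegrees G = charDegrees H := by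
  ext d
  constructor <;> rintro ⟨χ, rfl⟩
  · exact ⟨⟨fun h => (χ : G → ℂ) (e.symm h), Char.IsIrrCharacter.comp_equiv χ.2 e.symm⟩,
      by simp [charDegree]⟩
  · exact ⟨⟨fun g => (χ : H → ℂ) (e g), Char.IsIrrCharacter.comp_equiv χ.2 e⟩,
      by simp [charDegree]⟩

end Cfsg.Agent.Golay.UThree
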